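import Mathlib

set_option autoImplicit false
set_option backward.isDefEq.respectTransparency false
set_option backward.defeqAttrib.useBackward true
set_option linter.style.haveILetI false

/-!
# Finite fibres over minimal primes
-/

open TensorProduct

universe u

namespace Groth.Agent.GenFin

variable {A B : Type u} [CommRing A] [CommRing B] [Algebra A B]

/-- The fibre with finitely many primes is finite. -/
theorem finite_fiber [Algebra.FiniteType A B] (p : Ideal A) [p.IsPrime]
    (hfin : (p.primesOver B).Finite) : Module.Finite p.ResidueField (p.Fiber B) := by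
  haveI : Finite (PrimeSpectrum (p.Fiber B)) := by
    have h : (PrimeSpectrum.comap (algebraMap A B) ⁻¹' {⟨p, ‹_›⟩}).Finite := by
      refine (hfin.preimage (f := PrimeSpectrum.asIdeal) (Function.Injective.injOn
        fun _ _ => PrimeSpectrum.ext)).subset fun Q hQ => ⟨Q.isPrime, ⟨?_⟩⟩
      exact (congrArg PrimeSpectrum.asIdeal hQ).symm
    haveI := h.to_subtype
    exact Finite.of_equiv _ (PrimeSpectrum.preimageHomeomorphFiber A B ⟨p, inferInstance⟩).toEquiv
  haveI : Algebra.QuasiFinite p.ResidueField (p.Fiber B) := by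
    rw [Algebra.QuasiFinite.iff_finite_primesOver]
    exact fun I _ => (Set.finite_range PrimeSpectrum.asIdeal).subset
      fun Q hQ => ⟨⟨Q, hQ.1⟩, rfl⟩
  exact Module.Finite.of_quasiFinite

/-- Primes over `p` with finite fibre are incomparable. -/
theorem eq_of_le [Algebra.FiniteType A B] (p : Ideal A) [p.IsPrime]
    (hfin : (p.primesOver B).Finite) (Q Q' : Ideal B) [Q.IsPrime] [Q'.IsPrime]
    (hQ : Q.comap (algebraMap A B) = p) (hQ' : Q'.comap (algebraMap A B) = p) (h : Q ≤ Q') :
    Q = Q' := by
  haveI := finite_fiber p hfin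
  haveI : IsArtinianRing (p.Fiber B) := IsArtinianRing.of_finite p.ResidueField _
  let e := PrimeSpectrum.preimageHomeomorphFiber A B ⟨p, ‹_›⟩
  let a : PrimeSpectrum.comap (algebraMap A B) ⁻¹' {⟨p, ‹_›⟩} :=
    ⟨⟨Q, ‹_›⟩, PrimeSpectrum.ext hQ⟩
  let b : PrimeSpectrum.comap (algebraMap A B) ⁻¹' {⟨p, ‹_›⟩} :=
    ⟨⟨Q', ‹_›⟩, PrimeSpectrum.ext hQ'⟩
  have hsp : a ⤳ b := Topology.IsInducing.subtypeVal.specializes_iff.mp
    ((PrimeSpectrum.le_iff_specializes ⟨Q, ‹_›⟩ ⟨Q', ‹_›⟩).mp h)
  have h2 : e a = e b := specializes_iff_eq.mp (hsp.map e.continuous)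
  exact congrArg (fun z => (Subtype.val z).asIdeal) (e.injective h2)

/-- Elements of all primes over a minimal prime are nilpotent after localisation. -/
theorem exists_mul_pow_eq_zero (p : Ideal A) (hp : p ∈ minimalPrimes A) (d : B)
    (hd : ∀ Q : Ideal B, Q.IsPrime → Q.comap (algebraMap A B) = p → d ∈ Q) :
    ∃ (n : ℕ) (t : A), t ∉ p ∧ algebraMap A B t * d ^ n = 0 := by
  haveI := hp.1.1
  let M := Algebra.algebraMapSubmonoid B p.primeCompl
  have h : IsNilpotent (algebraMap B (Localization M) d) := by
    refine nilpotent_iff_mem_prime.mpr fun P hP => ?_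
    have h1 := (IsLocalization.isPrime_iff_isPrime_disjoint M (Localization M) P).mp hP
    refine hd _ h1.1 ?_
    have hle : (P.comap (algebraMap B (Localization M))).comap (algebraMap A B) ≤ p := fun a ha => by
      by_contra hne
      exact Set.disjoint_left.mp h1.2 ⟨a, hne, rfl⟩ ha
    haveI := h1.1
    exact le_antisymm hle (hp.2 ⟨Ideal.comap_isPrime _ _, bot_le⟩ hle)
  obtain ⟨n, hn⟩ := h
  rw [← map_pow] at hn
  obtain ⟨⟨_, t, ht, rfl⟩, h2⟩ := (IsLocalization.map_eq_zero_iff M _ _).mp hn
  exact ⟨n, t, ht, h2⟩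

/-- An equation with leading coefficient outside the minimal prime. -/
theorem exists_polynomial [Algebra.FiniteType A B] (p : Ideal A) (hp : p ∈ minimalPrimes A)
    (hfin : (p.primesOver B).Finite) (b : B) :
    ∃ P : Polynomial A, P.leadingCoeff ∉ p ∧ Polynomial.aeval b P = 0 := by
  haveI := hp.1.1
  haveI := finite_fiber p hfin
  obtain ⟨q, hq, hqb⟩ := Algebra.IsIntegral.isIntegral (R := p.ResidueField)
    ((1 : p.ResidueField) ⊗ₜ[A] b)
  obtain ⟨q₁, hq₁, hdeg, hq₁m⟩ := Polynomial.lifts_and_natDegree_eq_and_monic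
    (f := IsLocalRing.residue (Localization.AtPrime p)) (p := q) (Polynomial.mem_lifts _ |>.mpr
      (Polynomial.map_surjective _ IsLocalRing.residue_surjective q)) hq
  obtain ⟨c, hc⟩ := IsLocalization.integerNormalization_map_to_map p.primeCompl q₁
  let P := IsLocalization.integerNormalization p.primeCompl q₁
  have hcoeff : ∀ i, algebraMap A (Localization.AtPrime p) (P.coeff i) =
      algebraMap A (Localization.AtPrime p) c * q₁.coeff i := by
    intro i
    have := congrArg (fun r => Polynomial.coeff r i) hc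
    simpa [Polynomial.coeff_map, Algebra.smul_def, Submonoid.smul_def] using this
  have hlc : P.coeff q₁.natDegree ∉ p := by
    intro h
    have h1 := hcoeff q₁.natDegree
    rw [hq₁m.coeff_natDegree, mul_one] at h1
    obtain ⟨t, ht⟩ := (IsLocalization.eq_iff_exists p.primeCompl (Localization.AtPrime p)).mp h1
    have h2 : (t : A) * c ∈ p := ht ▸ p.mul_mem_left _ h
    exact (Ideal.IsPrime.mem_or_mem ‹_› h2).elim t.2 c.2
  have hdegP : P.natDegree = q₁.natDegree := by
    refine le_antisymm (Polynomial.natDegree_le_iff_coeff_eq_zero.mpr fun i hi => ?_)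
      (Polynomial.le_natDegree_of_ne_zero fun h => hlc (h ▸ p.zero_mem))
    refine Polynomial.notMem_support_iff.mp fun hm => ?_
    have := IsLocalization.coeffIntegerNormalization_mem_support p.primeCompl q₁ i
      (Polynomial.mem_support_iff.mp hm)
    exact (Nat.not_le.mpr hi) (Polynomial.le_natDegree_of_mem_supp _ this)
  obtain ⟨n, t, ht, htn⟩ := exists_mul_pow_eq_zero p hp (Polynomial.aeval b P) fun Q hQ hQp => by
    haveI : Q.LiesOver p := ⟨hQp.symm⟩
    letI := Localization.AtPrime.algebraOfLiesOver p Q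
    let σ : p.Fiber B →ₐ[p.ResidueField] Q.ResidueField :=
      Algebra.TensorProduct.lift (Algebra.ofId _ _) (IsScalarTower.toAlgHom A B Q.ResidueField)
        fun _ _ => mul_comm _ _
    have hσ : σ ((1 : p.ResidueField) ⊗ₜ[A] b) = algebraMap B Q.ResidueField b := by
      simp [σ]
    have h0 : Polynomial.aeval (algebraMap B Q.ResidueField b) q = 0 := by
      rw [← hσ, Polynomial.aeval_algHom_apply, Polynomial.aeval_def, hqb, map_zero]
    have hPq : P.map (algebraMap A p.ResidueField) =
        algebraMap A p.ResidueField c • q := by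
      ext i
      rw [Polynomial.coeff_map, Polynomial.coeff_smul, smul_eq_mul,
        IsScalarTower.algebraMap_apply A (Localization.AtPrime p) p.ResidueField, hcoeff,
        map_mul, ← IsScalarTower.algebraMap_apply]
      congr 1
      rw [← hq₁, Polynomial.coeff_map]
      rfl
    rw [← Ideal.algebraMap_residueField_eq_zero (I := Q), ← Polynomial.aeval_algebraMap_apply,
      ← Polynomial.aeval_map_algebraMap p.ResidueField, hPq, map_smul, h0, smul_zero]
  refine ⟨Polynomial.C t * P ^ n, ?_, by rw [map_mul, map_pow, Polynomial.aeval_C, htn]⟩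
  intro h
  have hmap : ((Polynomial.C t * P ^ n).map (Ideal.Quotient.mk p)).coeff (n * P.natDegree) = 0 := by
    rw [Polynomial.coeff_map, Ideal.Quotient.eq_zero_iff_mem]
    have hne : t * P.leadingCoeff ^ n ∉ p := Ideal.IsPrime.mul_notMem ‹_› ht
      fun hh => hlc (by
        have := Ideal.IsPrime.mem_of_pow_mem ‹_› n hh
        rwa [Polynomial.leadingCoeff, hdegP] at this)
    have hco : (Polynomial.C t * P ^ n).coeff (n * P.natDegree) = t * P.leadingCoeff ^ n := by
      rw [Polynomial.coeff_C_mul, Polynomial.coeff_pow_mul_natDegree]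
    exfalso
    have hnd : (Polynomial.C t * P ^ n).natDegree = n * P.natDegree := by
      refine le_antisymm ((Polynomial.natDegree_C_mul_le _ _).trans Polynomial.natDegree_pow_le)
        (Polynomial.le_natDegree_of_ne_zero ?_)
      rw [hco]
      exact fun h0 => hne (h0 ▸ p.zero_mem)
    apply hne
    rwa [← hco, ← hnd]
  rw [Polynomial.coeff_map, Polynomial.coeff_C_mul, Polynomial.coeff_pow_mul_natDegree,
    Ideal.Quotient.eq_zero_iff_mem] at hmap
  refine (Ideal.IsPrime.mem_or_mem ‹_› hmap).elim ht fun hh => hlc ?_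
  have := Ideal.IsPrime.mem_of_pow_mem ‹_› n hh
  rwa [Polynomial.leadingCoeff, hdegP] at this

/-- Finite after inverting an element outside the minimal prime. -/
theorem exists_integral_away [Algebra.FiniteType A B] (p : Ideal A) (hp : p ∈ minimalPrimes A)
    (hfin : (p.primesOver B).Finite) :
    ∃ s ∉ p, ∀ (A' B' : Type u) [CommRing A'] [CommRing B'] [Algebra A A'] [Algebra B B']
      [Algebra A' B'] [Algebra A B'] [IsScalarTower A A' B'] [IsScalarTower A B B']
      [IsLocalization.Away s A'] [IsLocalization.Away (algebraMap A B s) B'],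
      Algebra.IsIntegral A' B' := by
  classical
  haveI := hp.1.1
  obtain ⟨G, hG⟩ := ‹Algebra.FiniteType A B›.out
  choose P hP hPb using fun b : B => exists_polynomial p hp hfin b
  let s := ∏ g ∈ G, (P g).leadingCoeff
  refine ⟨s, fun h => ?_, ?_⟩
  · obtain ⟨g, -, hg⟩ := Ideal.IsPrime.prod_mem_iff.mp h
    exact hP g hg
  intro A' B' _ _ _ _ _ _ _ _ _ _
  have hgen : ∀ g ∈ G, IsIntegral A' (algebraMap B B' g) := by
    intro g hg
    have hu : IsUnit (algebraMap A A' (P g).leadingCoeff) :=
      isUnit_of_dvd_unit (map_dvd _ (Finset.dvd_prod_of_mem (fun g => (P g).leadingCoeff) hg))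
        (IsLocalization.Away.algebraMap_isUnit (S := A') s)
    refine ⟨Polynomial.C (↑hu.unit⁻¹ : A') * (P g).map (algebraMap A A'), ?_, ?_⟩
    · refine Polynomial.monic_of_natDegree_le_of_coeff_eq_one (P g).natDegree
        ((Polynomial.natDegree_C_mul_le _ _).trans Polynomial.natDegree_map_le) ?_
      rw [Polynomial.coeff_C_mul, Polynomial.coeff_map]
      exact hu.val_inv_mul
    · rw [← Polynomial.aeval_def, map_mul, Polynomial.aeval_C, Polynomial.aeval_map_algebraMap A',
        Polynomial.aeval_algebraMap_apply B' g, hPb, map_zero, mul_zero]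
  refine ⟨fun z => ?_⟩
  obtain ⟨n, b, hz⟩ := IsLocalization.Away.surj (algebraMap A B s) z
  have hb : IsIntegral A' (algebraMap B B' b) := by
    have hmem : b ∈ Algebra.adjoin A (G : Set B) := hG ▸ Algebra.mem_top
    clear hz
    induction hmem using Algebra.adjoin_induction with
    | mem g hg => exact hgen g hg
    | algebraMap r =>
      rw [← IsScalarTower.algebraMap_apply, IsScalarTower.algebraMap_apply A A' B']
      exact isIntegral_algebraMap
    | add x y _ _ hx hy => rw [map_add]; exact hx.add hy
    | mul x y _ _ hx hy => rw [map_mul]; exact hx.mul hy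
  have hu := IsLocalization.Away.algebraMap_isUnit (S := A') s
  have hz' : z = algebraMap B B' b * algebraMap A' B' (↑(hu.unit⁻¹ ^ n)) := by
    rw [← hz, ← IsScalarTower.algebraMap_apply, IsScalarTower.algebraMap_apply A A' B', mul_assoc,
      ← map_pow, ← map_mul, Units.val_pow_eq_pow_val, ← mul_pow, hu.mul_val_inv, one_pow, map_one,
      mul_one]
  rw [hz']
  exact hb.mul isIntegral_algebraMap

end Groth.Agent.GenFin
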