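import Mathlib
import Groth.Agent.GenFin.Algebra
import Groth.Agent.QCRange.Basic
import Groth.Agent.Unibranch.Open

set_option autoImplicit false
set_option backward.isDefEq.respectTransparency false
set_option backward.defeqAttrib.useBackward true
set_option linter.style.haveILetI false

/-!
# Finiteness near a generic point with finite fibre
-/

open CategoryTheory CategoryTheory.Limits AlgebraicGeometry Topology

universe u

namespace Groth.Agent.GenFin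

open Unibranch (exists_point_of_prime mem_minimalPrimes_primeIdealOf primeIdealOf_le_iff)

theorem comap_eq_iff {X Y : Scheme.{u}} (f : X ⟶ Y) {U : X.Opens} (hU : IsAffineOpen U)
    {V : Y.Opens} (hV : IsAffineOpen V) (h : U ≤ f ⁻¹ᵁ V) (a : U) (y : V) :
    (hU.primeIdealOf a).asIdeal.comap (f.appLE V U h).hom = (hV.primeIdealOf y).asIdeal ↔
      f a.1 = y.1 := by
  have h1 : (hU.primeIdealOf a).asIdeal.comap (f.appLE V U h).hom =
      (hV.primeIdealOf ⟨f a.1, h a.2⟩).asIdeal :=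
    congr($(IsAffineOpen.comap_primeIdealOf_appLE V hV U hU h a.2).1)
  rw [h1]
  refine ⟨fun he => ?_, fun he => ?_⟩
  · have h3 := congrArg hV.fromSpec (PrimeSpectrum.ext he)
    rwa [hV.fromSpec_primeIdealOf, hV.fromSpec_primeIdealOf] at h3
  · exact congrArg (fun c => (hV.primeIdealOf c).asIdeal) (Subtype.ext he)

theorem finite_primesOver {X Y : Scheme.{u}} (f : X ⟶ Y) {U : X.Opens} (hU : IsAffineOpen U)
    {V : Y.Opens} (hV : IsAffineOpen V) (h : U ≤ f ⁻¹ᵁ V) (y : V)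
    (hfin : (f ⁻¹' {y.1}).Finite) :
    letI := (f.appLE V U h).hom.toAlgebra
    ((hV.primeIdealOf y).asIdeal.primesOver Γ(X, U)).Finite := by
  letI := (f.appLE V U h).hom.toAlgebra
  refine ((hfin.preimage (f := (Subtype.val : U → X)) Subtype.val_injective.injOn).image
    fun a : U => (hU.primeIdealOf a).asIdeal).subset ?_
  rintro Q ⟨hQ, ⟨hover⟩⟩
  obtain ⟨a, rfl⟩ := exists_point_of_prime hU Q hQ
  exact ⟨a, (comap_eq_iff f hU hV h a y).mp hover.symm, rfl⟩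

theorem eq_of_specializes {X Y : Scheme.{u}} (f : X ⟶ Y) [LocallyOfFiniteType f] (y : Y)
    (hfin : (f ⁻¹' {y}).Finite) (a b : X) (ha : f a = y) (hb : f b = y) (h : a ⤳ b) : a = b := by
  obtain ⟨_, ⟨V : Y.Opens, hV, rfl⟩, hyV, -⟩ :=
    Y.isBasis_affineOpens.exists_subset_of_mem_open (Set.mem_univ y) isOpen_univ
  obtain ⟨_, ⟨U : X.Opens, hU, rfl⟩, hbU, hUV⟩ :=
    X.isBasis_affineOpens.exists_subset_of_mem_open (a := b) (u := ↑(f ⁻¹ᵁ V))
      (show f b ∈ V by rw [hb]; exact hyV) (f ⁻¹ᵁ V).2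
  have haU : a ∈ U := h.mem_open U.2 hbU
  algebraize [(f.appLE V U hUV).hom]
  haveI : Algebra.FiniteType Γ(Y, V) Γ(X, U) :=
    RingHom.finiteType_algebraMap.mp (f.finiteType_appLE hV hU hUV)
  have he := eq_of_le (hV.primeIdealOf ⟨y, hyV⟩).asIdeal
    (finite_primesOver f hU hV hUV ⟨y, hyV⟩ hfin)
    (hU.primeIdealOf ⟨a, haU⟩).asIdeal (hU.primeIdealOf ⟨b, hbU⟩).asIdeal
    ((comap_eq_iff f hU hV hUV ⟨a, haU⟩ ⟨y, hyV⟩).mpr ha)
    ((comap_eq_iff f hU hV hUV ⟨b, hbU⟩ ⟨y, hyV⟩).mpr hb)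
    ((primeIdealOf_le_iff hU _ _).mpr h)
  have h2 := (primeIdealOf_le_iff hU ⟨b, hbU⟩ ⟨a, haU⟩).mp he.ge
  exact (h.antisymm h2).eq

/-- A maximal point outside the image is outside its closure. -/
theorem notMem_closure {X Y : Scheme.{u}} (g : X ⟶ Y) [QuasiCompact g] (η : Y)
    (hη : ∀ y, y ⤳ η → y = η) (h : η ∉ Set.range g) : η ∉ closure (Set.range g) := fun hc => by
  obtain ⟨x, hx⟩ := QCRange.exists_specializes g η hc
  exact h ⟨x, hη _ hx⟩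

/-- An affine neighbourhood of a maximal point with affine preimage. -/
theorem exists_affine_preimage {X Y : Scheme.{u}} [IsAffine Y] (g : X ⟶ Y) [LocallyOfFiniteType g]
    [CompactSpace X] [QuasiSeparated g] (η : Y) (hη : ∀ y, y ⤳ η → y = η)
    (hfin : (g ⁻¹' {η}).Finite) :
    ∃ D : Y.Opens, η ∈ D ∧ IsAffineOpen D ∧ IsAffineOpen (g ⁻¹ᵁ D) := by
  classical
  haveI : QuasiSeparatedSpace X :=
    (quasiSeparated_iff_quasiSeparatedSpace g).mp ‹_›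
  have hsep : ∀ x : g ⁻¹' {η}, ∃ W : X.Opens, IsAffineOpen W ∧ x.1 ∈ W ∧
      ∀ z : g ⁻¹' {η}, z.1 ∈ W → z = x := by
    intro x
    have hC : IsClosed (⋃ z ∈ (g ⁻¹' {η}) \ {x.1}, closure ({z} : Set X)) :=
      (hfin.subset Set.sdiff_subset).isClosed_biUnion fun _ _ => isClosed_closure
    have hxC : x.1 ∉ ⋃ z ∈ (g ⁻¹' {η}) \ {x.1}, closure ({z} : Set X) := by
      simp only [Set.mem_iUnion, not_exists]
      rintro z ⟨hz, hne⟩ hzx
      exact hne (eq_of_specializes g η hfin z x.1 hz x.2 (specializes_iff_mem_closure.mpr hzx))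
    obtain ⟨_, ⟨W : X.Opens, hW, rfl⟩, hxW, hWC⟩ :=
      X.isBasis_affineOpens.exists_subset_of_mem_open (a := x.1) hxC hC.isOpen_compl
    refine ⟨W, hW, hxW, fun z hz => ?_⟩
    by_contra hne
    exact hWC hz (Set.mem_biUnion (show z.1 ∈ (g ⁻¹' {η}) \ {x.1} from
      ⟨z.2, fun h => hne (Subtype.ext h)⟩) (subset_closure rfl))
  choose W hW hxW hWu using hsep
  haveI : Finite (g ⁻¹' {η}) := hfin.to_subtype
  let O : X.Opens := ⨆ x, W x
  let Z : X.IdealSheafData := Scheme.IdealSheafData.vanishingIdeal ⟨(O : Set X)ᶜ, O.2.isClosed_compl⟩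
  have hZr : Set.range Z.subschemeι = (O : Set X)ᶜ := by
    rw [Z.range_subschemeι]
    exact Scheme.IdealSheafData.coe_support_vanishingIdeal _
  haveI : QuasiCompact g := (quasiCompact_iff_compactSpace g).mpr ‹_›
  have hK : η ∉ closure (g '' (O : Set X)ᶜ) := by
    rw [← hZr, ← Set.range_comp]
    refine notMem_closure (Z.subschemeι ≫ g) η hη ?_
    rintro ⟨z, hz⟩
    have h1 : Z.subschemeι z ∈ (O : Set X)ᶜ := hZr ▸ ⟨z, rfl⟩
    exact h1 (TopologicalSpace.Opens.mem_iSup.mpr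
      ⟨⟨Z.subschemeι z, hz⟩, hxW ⟨Z.subschemeι z, hz⟩⟩)
  have hov : ∀ a b, a ≠ b → η ∉ closure (g '' ((W a ⊓ W b : X.Opens) : Set X)) := by
    intro a b hab
    have hc : IsCompact ((W a ⊓ W b : X.Opens) : Set X) :=
      QuasiSeparatedSpace.inter_isCompact _ _ (W a).2 (hW a).isCompact (W b).2 (hW b).isCompact
    haveI : CompactSpace (W a ⊓ W b : X.Opens).toScheme := isCompact_iff_compactSpace.mp hc
    haveI : QuasiCompact ((W a ⊓ W b : X.Opens).ι ≫ g) :=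
      (quasiCompact_iff_compactSpace _).mpr ‹_›
    rw [← (W a ⊓ W b : X.Opens).range_ι, ← Set.range_comp]
    refine notMem_closure ((W a ⊓ W b : X.Opens).ι ≫ g) η hη ?_
    rintro ⟨z, hz⟩
    exact hab ((hWu a ⟨_, hz⟩ z.2.1).symm.trans (hWu b ⟨_, hz⟩ z.2.2))
  let bad : Set Y := closure (g '' (O : Set X)ᶜ) ∪
    ⋃ p ∈ {p : (g ⁻¹' {η}) × (g ⁻¹' {η}) | p.1 ≠ p.2},
      closure (g '' ((W p.1 ⊓ W p.2 : X.Opens) : Set X))
  have hbad : IsClosed bad :=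
    isClosed_closure.union ((Set.toFinite _).isClosed_biUnion fun _ _ => isClosed_closure)
  have hηbad : η ∉ bad := by
    rintro (h | h)
    · exact hK h
    · simp only [Set.mem_iUnion] at h
      obtain ⟨p, hp, h⟩ := h
      exact hov p.1 p.2 hp h
  obtain ⟨V : Y.Opens, ⟨r, hr⟩, hηV, hVbad⟩ :
      ∃ V : Y.Opens, (∃ r : Γ(Y, ⊤), V = Y.basicOpen r) ∧ η ∈ V ∧ (V : Set Y) ⊆ badᶜ := by
    obtain ⟨r, hr, hηr⟩ := (isAffineOpen_top Y).exists_basicOpen_le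
      (V := ⟨badᶜ, hbad.isOpen_compl⟩) ⟨η, hηbad⟩ trivial
    exact ⟨_, ⟨r, rfl⟩, hηr, hr⟩
  subst hr
  refine ⟨_, hηV, (isAffineOpen_top Y).basicOpen r, ?_⟩
  have hcov : g ⁻¹ᵁ Y.basicOpen r = ⨆ x, g ⁻¹ᵁ Y.basicOpen r ⊓ W x := by
    refine le_antisymm (fun z hz => ?_) (iSup_le fun _ => inf_le_left)
    have hzO : z ∈ O := by
      by_contra hzO
      exact hVbad hz (Or.inl (subset_closure ⟨z, hzO, rfl⟩))
    obtain ⟨x, hx⟩ := TopologicalSpace.Opens.mem_iSup.mp hzO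
    exact TopologicalSpace.Opens.mem_iSup.mpr ⟨x, hz, hx⟩
  rw [hcov]
  refine IsAffineOpen.iSup_of_disjoint (fun x => ?_) fun a b hab => ?_
  · rw [Scheme.preimage_basicOpen_top, inf_comm, ← Scheme.basicOpen_res X (g.appTop r)
      (homOfLE (le_top : W x ≤ ⊤)).op]
    exact (hW x).basicOpen _
  · show Disjoint _ _
    rw [disjoint_iff]
    refine le_bot_iff.mp fun z hz => ?_
    exact (hVbad hz.1.1 (Or.inr (Set.mem_biUnion (show (a, b) ∈ {p : (g ⁻¹' {η}) × (g ⁻¹' {η}) |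
      p.1 ≠ p.2} from hab) (subset_closure ⟨z, ⟨hz.1.2, hz.2.2⟩, rfl⟩)))).elim

/-- Finite near a maximal point with finite fibre. -/
theorem exists_isFinite {X Y : Scheme.{u}} (f : X ⟶ Y) [LocallyOfFiniteType f] [QuasiCompact f]
    [QuasiSeparated f] (η : Y) (hη : ∀ y, y ⤳ η → y = η) (hfin : (f ⁻¹' {η}).Finite) :
    ∃ V : Y.Opens, IsAffineOpen V ∧ η ∈ V ∧ IsFinite (f ∣_ V) := by
  obtain ⟨_, ⟨V₀ : Y.Opens, hV₀, rfl⟩, hηV₀, -⟩ :=
    Y.isBasis_affineOpens.exists_subset_of_mem_open (Set.mem_univ η) isOpen_univ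
  haveI : IsAffine V₀.toScheme := hV₀
  haveI : QuasiCompact (f ∣_ V₀) := IsZariskiLocalAtTarget.restrict ‹_› V₀
  haveI : QuasiSeparated (f ∣_ V₀) := IsZariskiLocalAtTarget.restrict ‹_› V₀
  haveI : CompactSpace (f ⁻¹ᵁ V₀).toScheme :=
    (quasiCompact_iff_compactSpace (f ∣_ V₀)).mp inferInstance
  have hη₀ : ∀ y, y ⤳ (⟨η, hηV₀⟩ : V₀.toScheme) → y = ⟨η, hηV₀⟩ := fun y hy =>
    Subtype.ext (hη _ (hy.map V₀.ι.continuous))
  have hfin₀ : ((f ∣_ V₀) ⁻¹' {(⟨η, hηV₀⟩ : V₀.toScheme)}).Finite := by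
    refine (hfin.preimage (f ⁻¹ᵁ V₀).ι.isOpenEmbedding.injective.injOn).subset fun z hz => ?_
    show f ((f ⁻¹ᵁ V₀).ι z) = η
    rw [← Scheme.Hom.comp_apply, ← morphismRestrict_ι, Scheme.Hom.comp_apply,
      show (f ∣_ V₀) z = (⟨η, hηV₀⟩ : V₀.toScheme) from hz]
    rfl
  obtain ⟨D₀, hηD₀, hD₀, hD₀'⟩ := exists_affine_preimage (f ∣_ V₀) ⟨η, hηV₀⟩ hη₀ hfin₀
  have hD : IsAffineOpen (V₀.ι ''ᵁ D₀) := hD₀.image_of_isOpenImmersion _
  have hD' : IsAffineOpen (f ⁻¹ᵁ (V₀.ι ''ᵁ D₀)) := by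
    rw [← image_morphismRestrict_preimage]
    exact hD₀'.image_of_isOpenImmersion _
  have hηD : η ∈ V₀.ι ''ᵁ D₀ := ⟨⟨η, hηV₀⟩, hηD₀, rfl⟩
  generalize V₀.ι ''ᵁ D₀ = D at hD hD' hηD
  algebraize [(f.app D).hom]
  haveI : Algebra.FiniteType Γ(Y, D) Γ(X, f ⁻¹ᵁ D) := by
    refine RingHom.finiteType_algebraMap.mp ?_
    have := f.finiteType_appLE hD hD' le_rfl
    rwa [← Scheme.Hom.app_eq_appLE] at this
  have hfinD : ((hD.primeIdealOf ⟨η, hηD⟩).asIdeal.primesOver Γ(X, f ⁻¹ᵁ D)).Finite := by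
    have h := finite_primesOver f hD' hD le_rfl ⟨η, hηD⟩ hfin
    convert h using 3
    rw [Scheme.Hom.app_eq_appLE]
  have hmin := mem_minimalPrimes_primeIdealOf hD ⟨η, hηD⟩ hη
  obtain ⟨s, hs, hint⟩ := exists_integral_away _ hmin hfinD
  refine ⟨Y.basicOpen s, hD.basicOpen s, ?_, ?_⟩
  · have h1 : hD.primeIdealOf ⟨η, hηD⟩ ∈ hD.fromSpec ⁻¹ᵁ Y.basicOpen s := by
      rw [hD.fromSpec_preimage_basicOpen]; exact hs
    have h2 : hD.fromSpec (hD.primeIdealOf ⟨η, hηD⟩) ∈ Y.basicOpen s := h1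
    rwa [hD.fromSpec_primeIdealOf] at h2
  have hW : IsAffineOpen (f ⁻¹ᵁ Y.basicOpen s) := by
    rw [Scheme.preimage_basicOpen]; exact hD'.basicOpen _
  let i := homOfLE (f.preimage_mono (Y.basicOpen_le s))
  letI := (Y.presheaf.map (homOfLE (Y.basicOpen_le s)).op).hom.toAlgebra
  letI := (X.presheaf.map i.op).hom.toAlgebra
  letI := (f.app (Y.basicOpen s)).hom.toAlgebra
  letI : Algebra Γ(Y, D) Γ(X, f ⁻¹ᵁ Y.basicOpen s) :=
    (f.app D ≫ X.presheaf.map i.op).hom.toAlgebra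
  haveI : IsScalarTower Γ(Y, D) Γ(X, f ⁻¹ᵁ D) Γ(X, f ⁻¹ᵁ Y.basicOpen s) :=
    .of_algebraMap_eq fun _ => rfl
  haveI : IsScalarTower Γ(Y, D) Γ(Y, Y.basicOpen s) Γ(X, f ⁻¹ᵁ Y.basicOpen s) :=
    .of_algebraMap_eq fun r => by
      show (f.app D ≫ X.presheaf.map i.op) r =
        (Y.presheaf.map (homOfLE (Y.basicOpen_le s)).op ≫ f.app (Y.basicOpen s)) r
      rw [f.naturality]
      rfl
  haveI := hD.isLocalization_basicOpen s
  haveI : IsLocalization.Away (algebraMap Γ(Y, D) Γ(X, f ⁻¹ᵁ D) s)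
      Γ(X, f ⁻¹ᵁ Y.basicOpen s) :=
    hD'.isLocalization_of_eq_basicOpen (f.app D s) i (Scheme.preimage_basicOpen f s)
  haveI := hint Γ(Y, Y.basicOpen s) Γ(X, f ⁻¹ᵁ Y.basicOpen s)
  haveI : IsAffine (Y.basicOpen s).toScheme := hD.basicOpen s
  haveI : IsAffine (f ⁻¹ᵁ Y.basicOpen s).toScheme := hW
  rw [HasAffineProperty.iff_of_isAffine (P := @IsFinite)]
  refine ⟨inferInstance, ?_⟩
  rw [morphismRestrict_appTop]
  refine (RingHom.finite_respectsIso.cancel_right_isIso _ _).mpr ?_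
  rw [(Y.basicOpen s).ι_image_top]
  refine RingHom.IsIntegral.to_finite (fun z => Algebra.IsIntegral.isIntegral z) ?_
  have := f.finiteType_appLE (hD.basicOpen s) hW le_rfl
  rwa [← Scheme.Hom.app_eq_appLE] at this

end Groth.Agent.GenFin
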