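import Mathlib
import Groth.Agent.GenFree.Algebra
import Groth.Agent.GenFin.Scheme
import Groth.Agent.Unibranch.Open

set_option autoImplicit false
set_option backward.isDefEq.respectTransparency false
set_option backward.defeqAttrib.useBackward true
set_option linter.style.haveILetI false

/-!
# Images of nowhere dense closed sets under quasi-finite morphisms
-/

universe u

open CategoryTheory AlgebraicGeometry Topology

namespace Groth.Agent.GenFin

/-- A finitely generated ideal inside a minimal prime vanishes near it. -/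
theorem exists_subset_zeroLocus {S : Type u} [CommRing S] (I : Ideal S) (hI : I.FG)
    (Q : Ideal S) [hQp : Q.IsPrime] (hQ : ∀ P : Ideal S, P.IsPrime → P ≤ Q → P = Q) (hIQ : I ≤ Q) :
    ∃ s ∉ Q, (PrimeSpectrum.basicOpen s : Set (PrimeSpectrum S)) ⊆ PrimeSpectrum.zeroLocus I := by
  classical
  have key : ∀ x ∈ Q, ∃ s ∉ Q, ∀ P : Ideal S, P.IsPrime → s ∉ P → x ∈ P := by
    intro x hx
    by_contra hcon
    push Not at hcon
    let M : Submonoid S := Submonoid.powers x ⊔ Q.primeCompl
    have hdisj : Disjoint ((⊥ : Ideal S) : Set S) (M : Set S) := by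
      rw [Set.disjoint_left]
      rintro z (rfl : z = 0) hz
      obtain ⟨_, ⟨n, rfl⟩, s, hs, hns⟩ := Submonoid.mem_sup.mp hz
      obtain ⟨P, hP, hsP, hxP⟩ := hcon s hs
      have h0 : x ^ n * s ∈ P := by simp only at hns; rw [hns]; exact P.zero_mem
      rcases hP.mem_or_mem h0 with h | h
      · exact hxP (hP.mem_of_pow_mem n h)
      · exact hsP h
    obtain ⟨P, hP, -, hPM⟩ := Ideal.exists_le_prime_disjoint ⊥ M hdisj
    have hle : P ≤ Q := fun z hz => by
      by_contra hzQ
      exact Set.disjoint_left.mp hPM hz (Submonoid.mem_sup_right hzQ)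
    have := hQ P hP hle ▸ hx
    exact Set.disjoint_left.mp hPM this (Submonoid.mem_sup_left ⟨1, pow_one x⟩)
  obtain ⟨t, rfl⟩ := hI
  have hk : ∀ x : t, ∃ s ∉ Q, ∀ P : Ideal S, P.IsPrime → s ∉ P → (x : S) ∈ P :=
    fun x => key x (hIQ (Submodule.subset_span x.2))
  choose s hs hs' using hk
  refine ⟨∏ x : t, s x, fun h => ?_, fun P hP => ?_⟩
  · obtain ⟨x, -, hx⟩ := hQp.prod_mem_iff.mp h
    exact hs x hx
  · rw [PrimeSpectrum.zeroLocus_span]
    intro x hx
    exact hs' ⟨x, hx⟩ _ P.isPrime fun h =>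
      hP (Ideal.prod_mem _ (Finset.mem_univ (⟨x, hx⟩ : t)) h)

/-- A closed subset of a finite scheme surjecting onto a reduced base has interior. -/
theorem exists_interior_reduced {R S : Type u} [CommRing R] [IsReduced R] [Nontrivial R]
    [CommRing S] [Algebra R S] [Module.Finite R S] (I : Ideal S)
    (hI : ∀ p : Ideal R, p.IsPrime → ∃ Q : Ideal S, Q.IsPrime ∧ I ≤ Q ∧ Q.comap (algebraMap R S) = p) :
    ∃ a : S, (PrimeSpectrum.basicOpen a : Set (PrimeSpectrum S)).Nonempty ∧
      (PrimeSpectrum.basicOpen a : Set (PrimeSpectrum S)) ⊆ PrimeSpectrum.zeroLocus I := by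
  obtain ⟨f, -, hf, -, b, W, h, hW, hs, hk⟩ :=
    GenFree.exists_module (R := R) (S := S) (M := S ⧸ I) (one_ne_zero (α := R))
  obtain ⟨p, hp, hfp⟩ : ∃ p ∈ minimalPrimes R, f ∉ p := by
    by_contra hcon
    push Not at hcon
    refine hf ((nilpotent_iff_mem_prime.mpr fun J hJ => ?_).eq_zero)
    obtain ⟨p, hp, hpJ⟩ := Ideal.exists_minimalPrimes_le (I := (⊥ : Ideal R)) (J := J) bot_le
    exact hpJ (hcon p hp)
  obtain ⟨Q, hQ, hIQ, hQp⟩ := hI p hp.1.1
  have hfQ : algebraMap R S f ∉ Q := fun h => hfp (hQp ▸ h)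
  have hQmin : ∀ P : Ideal S, P.IsPrime → P ≤ Q → P = Q := by
    intro P hP hle
    by_contra hne
    obtain ⟨x, hxQ, hxP⟩ := Set.not_subset.mp fun h => hne (le_antisymm hle h)
    haveI := hP
    have h1 := Ideal.comap_lt_comap_of_integral_mem_sdiff hle ⟨hxQ, hxP⟩
      (Algebra.IsIntegral.isIntegral (R := R) x)
    rw [hQp] at h1
    exact h1.not_ge (hp.2 ⟨Ideal.IsPrime.comap (algebraMap R S), bot_le⟩ h1.le)
  let a := algebraMap R S f
  let Sf := Localization.Away a
  have hFP : Module.FinitePresentation Sf (LocalizedModule (Submonoid.powers a) (S ⧸ I)) :=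
    GenFree.fp_localizedModule a W hW h hs fun x hx => by
      obtain ⟨k, hk'⟩ := hk x hx
      exact ⟨k, by rwa [← map_pow, algebraMap_smul]⟩
  let one : LocalizedModule (Submonoid.powers a) (S ⧸ I) :=
    LocalizedModule.mk (Ideal.Quotient.mk I 1) 1
  let φ : Sf →ₗ[Sf] LocalizedModule (Submonoid.powers a) (S ⧸ I) := LinearMap.toSpanSingleton Sf _ one
  have happ : ∀ (c : S) (t : Submonoid.powers a),
      φ (Localization.mk c t) = LocalizedModule.mk (Ideal.Quotient.mk I c) t := by
    intro c t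
    show (Localization.mk c t : Sf) •
      (LocalizedModule.mk (Ideal.Quotient.mk I 1) 1 : LocalizedModule (Submonoid.powers a) (S ⧸ I)) = _
    rw [LocalizedModule.mk_smul_mk, mul_one]
    congr 1
    show Ideal.Quotient.mk I (c * 1) = _
    rw [mul_one]
  have hsur : Function.Surjective φ := by
    intro y
    induction y using LocalizedModule.induction_on with
    | _ m t =>
      obtain ⟨c, rfl⟩ := Ideal.Quotient.mk_surjective m
      exact ⟨Localization.mk c t, happ c t⟩
  have hfg : (LinearMap.ker φ).FG := by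
    haveI := hFP
    exact Module.FinitePresentation.fg_ker φ hsur
  have hdisj : Disjoint (Submonoid.powers a : Set S) Q :=
    (Ideal.disjoint_powers_iff_notMem _ hQ.isRadical).mpr hfQ
  let Qf := Q.map (algebraMap S Sf)
  haveI : Qf.IsPrime := IsLocalization.isPrime_of_isPrime_disjoint _ _ _ hQ hdisj
  have hQc : Qf.comap (algebraMap S Sf) = Q :=
    IsLocalization.under_map_of_isPrime_disjoint (Submonoid.powers a) Sf hQ hdisj
  have hmin : ∀ P : Ideal Sf, P.IsPrime → P ≤ Qf → P = Qf := by
    intro P hP hle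
    rw [← IsLocalization.map_under (Submonoid.powers a) Sf P,
      show P.under S = Q from
        hQmin _ (Ideal.IsPrime.comap _) ((Ideal.comap_mono hle).trans hQc.le)]
  have hker : LinearMap.ker φ ≤ Qf := by
    intro z hz
    induction z using Localization.induction_on with
    | _ ct =>
      obtain ⟨c, t⟩ := ct
      rw [LinearMap.mem_ker, happ, ← LocalizedModule.zero_mk t, LocalizedModule.mk_eq] at hz
      obtain ⟨⟨u, hu⟩, hu'⟩ := hz
      rw [smul_zero, smul_zero] at hu'
      have h3 : u * (t.1 * c) ∈ I := by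
        rw [← Ideal.Quotient.eq_zero_iff_mem]
        exact hu'
      have h4 : c ∈ Q := by
        have h5 := hQ.mem_or_mem (hIQ h3)
        rcases h5 with h5 | h5
        · exact absurd h5 (Set.disjoint_left.mp hdisj hu)
        · exact (hQ.mem_or_mem h5).resolve_left (Set.disjoint_left.mp hdisj t.2)
      rw [Localization.mk_eq_mk', IsLocalization.mk'_mem_iff]
      exact Ideal.mem_map_of_mem _ h4
  obtain ⟨s', hs'Q, hs'⟩ := exists_subset_zeroLocus (LinearMap.ker φ) hfg Qf hmin hker
  obtain ⟨c, ⟨t, rfl⟩⟩ : ∃ c : S, ∃ t : Submonoid.powers a, Localization.mk c t = s' := by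
    induction s' using Localization.induction_on with
    | _ ct => exact ⟨ct.1, ct.2, rfl⟩
  refine ⟨c * a, ⟨⟨Q, hQ⟩, ?_⟩, ?_⟩
  · intro h
    rcases hQ.mem_or_mem h with h | h
    · refine hs'Q ?_
      rw [Localization.mk_eq_mk', IsLocalization.mk'_mem_iff]
      exact Ideal.mem_map_of_mem _ h
    · exact hfQ h
  · intro P hP x hx
    have hPc : c ∉ P.asIdeal := fun h => hP (Ideal.mul_mem_right _ _ h)
    have hPa : a ∉ P.asIdeal := fun h => hP (Ideal.mul_mem_left _ _ h)
    have hPd : Disjoint (Submonoid.powers a : Set S) P.asIdeal :=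
      (Ideal.disjoint_powers_iff_notMem _ P.isPrime.isRadical).mpr hPa
    haveI := IsLocalization.isPrime_of_isPrime_disjoint _ Sf _ P.isPrime hPd
    have hPc' : (P.asIdeal.map (algebraMap S Sf)).comap (algebraMap S Sf) = P.asIdeal :=
      IsLocalization.under_map_of_isPrime_disjoint (Submonoid.powers a) Sf P.isPrime hPd
    let P' : PrimeSpectrum Sf := ⟨P.asIdeal.map (algebraMap S Sf), inferInstance⟩
    have h1 : P' ∈ PrimeSpectrum.basicOpen (Localization.mk c t) := by
      intro h
      rw [Localization.mk_eq_mk', IsLocalization.mk'_mem_iff] at h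
      exact hPc (hPc'.le (Ideal.mem_comap.mpr h))
    have h2 : algebraMap S Sf x ∈ P'.asIdeal := by
      refine hs' h1 ?_
      show φ (algebraMap S Sf x) = 0
      rw [← Localization.mk_one_eq_algebraMap, happ, Ideal.Quotient.eq_zero_iff_mem.mpr hx,
        LocalizedModule.zero_mk]
    exact hPc'.le (Ideal.mem_comap.mpr h2)

/-- A closed subset of a finite scheme surjecting onto the base has interior. -/
theorem exists_interior {R S : Type u} [CommRing R] [Nontrivial R]
    [CommRing S] [Algebra R S] [Module.Finite R S] (I : Ideal S)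
    (hI : ∀ p : Ideal R, p.IsPrime → ∃ Q : Ideal S, Q.IsPrime ∧ I ≤ Q ∧ Q.comap (algebraMap R S) = p) :
    ∃ a : S, (PrimeSpectrum.basicOpen a : Set (PrimeSpectrum S)).Nonempty ∧
      (PrimeSpectrum.basicOpen a : Set (PrimeSpectrum S)) ⊆ PrimeSpectrum.zeroLocus I := by
  let N := nilradical R
  let J := N.map (algebraMap R S)
  haveI : Nontrivial (R ⧸ N) := Ideal.Quotient.nontrivial_iff.mpr fun h => by
    have h1 : (1 : R) ∈ nilradical R := (h ▸ Submodule.mem_top : (1 : R) ∈ N)
    exact not_isNilpotent_one (mem_nilradical.mp h1)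
  haveI : IsReduced (R ⧸ N) := (Ideal.isRadical_iff_quotient_reduced N).mp (Ideal.radical_isRadical _)
  haveI : Module.Finite (R ⧸ N) (S ⧸ J) := Module.Finite.of_restrictScalars_finite R _ _
  have hJ : ∀ P : Ideal S, P.IsPrime → J ≤ P := fun P hP => by
    rw [Ideal.map_le_iff_le_comap]
    exact fun x hx => by
      haveI := hP
      exact nilpotent_iff_mem_prime.mp (mem_nilradical.mp hx) _ (Ideal.IsPrime.comap _)
  obtain ⟨a', ha1, ha2⟩ := exists_interior_reduced (R := R ⧸ N) (S := S ⧸ J)
    (I.map (Ideal.Quotient.mk J)) (by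
      intro p hp
      obtain ⟨Q, hQ, hIQ, hQp⟩ := hI (p.comap (Ideal.Quotient.mk N)) (Ideal.IsPrime.comap _)
      refine ⟨Q.map (Ideal.Quotient.mk J), Ideal.map_isPrime_of_surjective
        Ideal.Quotient.mk_surjective (by rw [Ideal.mk_ker]; exact hJ Q hQ), Ideal.map_mono hIQ, ?_⟩
      refine Ideal.comap_injective_of_surjective (Ideal.Quotient.mk N) Ideal.Quotient.mk_surjective ?_
      rw [Ideal.comap_comap, ← hQp]
      show Ideal.comap ((algebraMap (R ⧸ N) (S ⧸ J)).comp (algebraMap R (R ⧸ N))) _ = _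
      rw [← IsScalarTower.algebraMap_eq, IsScalarTower.algebraMap_eq R S (S ⧸ J),
        ← Ideal.comap_comap, Ideal.Quotient.algebraMap_eq,
        Ideal.comap_map_of_surjective' _ Ideal.Quotient.mk_surjective, Ideal.mk_ker,
        sup_eq_left.mpr (hJ Q hQ)])
  obtain ⟨a, rfl⟩ := Ideal.Quotient.mk_surjective a'
  refine ⟨a, ?_, fun P hP x hx => ?_⟩
  · obtain ⟨P', hP'⟩ := ha1
    exact ⟨⟨P'.asIdeal.comap (Ideal.Quotient.mk J), Ideal.IsPrime.comap _⟩, hP'⟩
  · have hPJ := hJ P.asIdeal P.isPrime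
    have hP'prime : (P.asIdeal.map (Ideal.Quotient.mk J)).IsPrime :=
      Ideal.map_isPrime_of_surjective Ideal.Quotient.mk_surjective (by rw [Ideal.mk_ker]; exact hPJ)
    have hc : (P.asIdeal.map (Ideal.Quotient.mk J)).comap (Ideal.Quotient.mk J) = P.asIdeal := by
      rw [Ideal.comap_map_of_surjective' _ Ideal.Quotient.mk_surjective, Ideal.mk_ker,
        sup_eq_left.mpr hPJ]
    have h2 := ha2 (show (⟨_, hP'prime⟩ : PrimeSpectrum (S ⧸ J)) ∈
      PrimeSpectrum.basicOpen (Ideal.Quotient.mk J a) from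
        fun h => hP (hc.le (Ideal.mem_comap.mpr h))) (Ideal.mem_map_of_mem _ hx)
    exact hc.le (Ideal.mem_comap.mpr h2)

end Groth.Agent.GenFin
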