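import Mathlib
import Groth.Agent.GenFin.NowhereDense

set_option autoImplicit false
set_option backward.isDefEq.respectTransparency false
set_option backward.defeqAttrib.useBackward true
set_option linter.style.haveILetI false

/-!
# Quasi-finite morphisms are finite over a dense open
-/

universe u

open CategoryTheory CategoryTheory.Limits AlgebraicGeometry Topology TopologicalSpace

namespace Groth.Agent.GenFin

theorem isFinite_mono {X Y : Scheme.{u}} (f : X ⟶ Y) {U V : Y.Opens} (hUV : U ≤ V)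
    (h : IsFinite (f ∣_ V)) : IsFinite (f ∣_ U) := by
  have e : V.ι ''ᵁ (V.ι ⁻¹ᵁ U) = U := by
    rw [Scheme.Hom.image_preimage_eq_opensRange_inf, Scheme.Opens.opensRange_ι, inf_eq_right]
    exact hUV
  exact (MorphismProperty.arrow_mk_iso_iff @IsFinite
    (morphismRestrictRestrict f V (V.ι ⁻¹ᵁ U) ≪≫ morphismRestrictEq f e)).mp
      (IsZariskiLocalAtTarget.restrict h _)

/-- Every nonempty open contains a nonempty affine open over which the morphism is finite. -/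
theorem exists_finite_open {W Y : Scheme.{u}} (g : W ⟶ Y) [LocallyOfFiniteType g] [QuasiCompact g]
    [QuasiSeparated g] [LocallyQuasiFinite g] {D : Set Y} (hD : IsOpen D) (hne : D.Nonempty) :
    ∃ D' : Y.Opens, IsAffineOpen D' ∧ (D' : Set Y).Nonempty ∧ (D' : Set Y) ⊆ D ∧
      IsFinite (g ∣_ D') := by
  obtain ⟨y, hy⟩ := hne
  obtain ⟨η, hηy, hη⟩ := Unibranch.exists_max_specializes y
  obtain ⟨V, hV, hηV, hfin⟩ := exists_isFinite g η hη (g.finite_preimage_singleton η)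
  obtain ⟨s, hs, hηs⟩ := hV.exists_basicOpen_le (V := ⟨D, hD⟩)
    ⟨η, hηy.mem_open hD hy⟩ hηV
  exact ⟨Y.basicOpen s, hV.basicOpen s, ⟨η, hηs⟩, hs, isFinite_mono g (Y.basicOpen_le s) hfin⟩

theorem isNowhereDense_image {W Y : Scheme.{u}} (g : W ⟶ Y) [LocallyOfFiniteType g] [QuasiCompact g]
    [QuasiSeparated g] [LocallyQuasiFinite g] (T : Set W) (hT : IsClosed T)
    (hT' : IsNowhereDense T) : IsNowhereDense (g '' T) := by
  by_contra hcon
  obtain ⟨D', hD', ⟨y₀, hy₀⟩, hD'D, hfin⟩ :=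
    exists_finite_open g (isOpen_interior (s := closure (g '' T))) (Set.nonempty_iff_ne_empty.mpr hcon)
  haveI := hfin
  have hsub : (D' : Set Y) ⊆ g '' T := by
    intro y hy
    have hcl : IsClosed ((g ∣_ D') '' ((g ⁻¹ᵁ D').ι ⁻¹' T)) :=
      (g ∣_ D').isClosedMap _ (hT.preimage (g ⁻¹ᵁ D').ι.continuous)
    obtain ⟨C, hC, hCe⟩ := D'.ι.isOpenEmbedding.isInducing.isClosed_iff.mp hcl
    have hsubC : g '' T ⊆ C ∪ (D' : Set Y)ᶜ := by
      rintro _ ⟨t, ht, rfl⟩
      by_cases htD : g t ∈ D'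
      · refine Or.inl ?_
        have h1 : (g ∣_ D') ⟨t, htD⟩ ∈ (g ∣_ D') '' ((g ⁻¹ᵁ D').ι ⁻¹' T) := ⟨_, ht, rfl⟩
        rw [← hCe, Set.mem_preimage, ← Scheme.Hom.comp_apply, morphismRestrict_ι,
          Scheme.Hom.comp_apply] at h1
        exact h1
      · exact Or.inr htD
    have hyC : y ∈ C := (closure_minimal hsubC (hC.union D'.2.isClosed_compl)
      (interior_subset (hD'D hy))).resolve_right (fun h => h hy)
    have hy' : (⟨y, hy⟩ : D'.toScheme) ∈ (g ∣_ D') '' ((g ⁻¹ᵁ D').ι ⁻¹' T) := by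
      rw [← hCe]; exact hyC
    obtain ⟨z, hz, hz'⟩ := hy'
    refine ⟨(g ⁻¹ᵁ D').ι z, hz, ?_⟩
    rw [← Scheme.Hom.comp_apply, ← morphismRestrict_ι, Scheme.Hom.comp_apply, hz']
    rfl
  haveI : IsAffine D'.toScheme := hD'
  haveI : IsAffineHom (g ∣_ D') := inferInstance
  haveI : IsAffine (g ⁻¹ᵁ D').toScheme := isAffine_of_isAffineHom (g ∣_ D')
  have hW : IsAffineOpen (g ⁻¹ᵁ D') := ‹IsAffine (g ⁻¹ᵁ D').toScheme›
  algebraize [(g.app D').hom]
  haveI : Module.Finite Γ(Y, D') Γ(W, g ⁻¹ᵁ D') := by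
    have h := (HasAffineProperty.iff_of_isAffine (P := @IsFinite)).mp hfin
    have h2 := h.2
    rw [morphismRestrict_appTop] at h2
    have h3 := (RingHom.finite_respectsIso.cancel_right_isIso _ _).mp h2
    rw [D'.ι_image_top] at h3
    exact RingHom.finite_algebraMap.mp h3
  haveI : Nonempty D' := ⟨⟨y₀, hy₀⟩⟩
  haveI : Nontrivial Γ(Y, D') :=
    ⟨⟨1, 0, fun h => (hD'.primeIdealOf ⟨y₀, hy₀⟩).isPrime.ne_top
      ((Ideal.eq_top_iff_one _).mpr (h ▸ Ideal.zero_mem _))⟩⟩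
  obtain ⟨I, hI⟩ := (PrimeSpectrum.isClosed_iff_zeroLocus_ideal (hW.fromSpec ⁻¹' T)).mp
    (hT.preimage hW.fromSpec.continuous)
  obtain ⟨a, ⟨P, hP⟩, ha⟩ := exists_interior (R := Γ(Y, D')) I fun p hp => by
    let y : D' := ⟨hD'.fromSpec ⟨p, hp⟩,
      hD'.range_fromSpec.le (Set.mem_range_self (f := hD'.fromSpec) _)⟩
    have hyp : hD'.primeIdealOf y = ⟨p, hp⟩ :=
      hD'.fromSpec.isOpenEmbedding.injective (hD'.fromSpec_primeIdealOf y)
    obtain ⟨t, ht, hty⟩ := hsub y.2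
    have htW : t ∈ g ⁻¹ᵁ D' := show g t ∈ D' by rw [hty]; exact y.2
    refine ⟨(hW.primeIdealOf ⟨t, htW⟩).asIdeal, (hW.primeIdealOf ⟨t, htW⟩).isPrime, ?_, ?_⟩
    · have h1 : hW.primeIdealOf ⟨t, htW⟩ ∈ hW.fromSpec ⁻¹' T := by
        rw [Set.mem_preimage, hW.fromSpec_primeIdealOf]; exact ht
      rw [hI] at h1
      exact h1
    · have h1 := (comap_eq_iff g hW hD' le_rfl ⟨t, htW⟩ y).mpr hty
      rw [Scheme.Hom.appLE] at h1
      simp only [homOfLE_refl, op_id, CategoryTheory.Functor.map_id, Category.comp_id] at h1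
      rw [hyp] at h1
      exact h1
  let Da : Set (Spec Γ(W, g ⁻¹ᵁ D')) :=
    (PrimeSpectrum.basicOpen a : Set (PrimeSpectrum Γ(W, g ⁻¹ᵁ D')))
  have hopen : IsOpen (hW.fromSpec '' Da) :=
    hW.fromSpec.isOpenEmbedding.isOpenMap _ (PrimeSpectrum.basicOpen a).2
  have hsubT : hW.fromSpec '' Da ⊆ T := by
    rintro _ ⟨Q, hQ, rfl⟩
    have h1 : Q ∈ hW.fromSpec ⁻¹' T := hI ▸ ha hQ
    exact h1
  have hne : (hW.fromSpec '' Da).Nonempty := ⟨_, P, hP, rfl⟩
  obtain ⟨z, hz⟩ := hne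
  have h := interior_mono subset_closure (interior_maximal hsubT hopen hz)
  rw [show interior (closure T) = ∅ from hT'] at h
  exact h

theorem isNowhereDense_union {X : Type*} [TopologicalSpace X] {s t : Set X}
    (hs : IsNowhereDense s) (ht : IsNowhereDense t) : IsNowhereDense (s ∪ t) := by
  rw [IsNowhereDense, closure_union, interior_union_isClosed_of_interior_empty isClosed_closure ht]
  exact hs

theorem isNowhereDense_finite_biUnion {X ι : Type*} [TopologicalSpace X] (t : Finset ι)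
    (f : ι → Set X) (h : ∀ i ∈ t, IsNowhereDense (f i)) : IsNowhereDense (⋃ i ∈ t, f i) := by
  classical
  induction t using Finset.induction_on with
  | empty => simp
  | insert j t hj ih =>
    rw [Finset.set_biUnion_insert]
    exact isNowhereDense_union (h j (Finset.mem_insert_self _ _))
      (ih fun i hi => h i (Finset.mem_insert_of_mem hi))

theorem exists_affine_cover {Y X : Scheme.{u}} (f : Y ⟶ X) [QuasiCompact f] {V : X.Opens}
    (hV : IsAffineOpen V) :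
    ∃ t : Finset Y.affineOpens, (f ⁻¹ᵁ V : Set Y) = ⋃ i ∈ t, (i.1 : Set Y) := by
  obtain ⟨s, hsfin, hs⟩ :=
    isCompact_and_isOpen_iff_finite_and_eq_biUnion_affineOpens.mp
      ⟨f.isCompact_preimage hV.isCompact, (f ⁻¹ᵁ V).2⟩
  exact ⟨hsfin.toFinset, by rw [hs]; simp⟩

/-- The morphism from an affine piece to the affine base. -/
theorem exists_piece {Y X : Scheme.{u}} (f : Y ⟶ X) [LocallyQuasiFinite f] [LocallyOfFiniteType f]
    {V : X.Opens} (hV : IsAffineOpen V) {W : Y.Opens} (hW : IsAffineOpen W) (h : W ≤ f ⁻¹ᵁ V) :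
    ∃ g : W.toScheme ⟶ V.toScheme, g ≫ V.ι = W.ι ≫ f ∧ LocallyOfFiniteType g ∧ QuasiCompact g ∧
      QuasiSeparated g ∧ LocallyQuasiFinite g := by
  haveI : IsAffine V.toScheme := hV
  haveI : IsAffine W.toScheme := hW
  refine ⟨f.resLE V W h, Scheme.Hom.resLE_comp_ι f h, ?_, inferInstance, inferInstance, ?_⟩
  · haveI : LocallyOfFiniteType (f.resLE V W h ≫ V.ι) := by
      rw [Scheme.Hom.resLE_comp_ι]; infer_instance
    exact locallyOfFiniteType_of_comp _ V.ι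
  · haveI : LocallyQuasiFinite (f.resLE V W h ≫ V.ι) := by
      rw [Scheme.Hom.resLE_comp_ι]; infer_instance
    exact LocallyQuasiFinite.of_comp _ V.ι

theorem isNowhereDense_image_of_qc {Y X : Scheme.{u}} (f : Y ⟶ X) [LocallyQuasiFinite f]
    [LocallyOfFiniteType f] [QuasiCompact f] (T : Set Y) (hT : IsClosed T) (hT' : IsNowhereDense T) :
    IsNowhereDense (f '' T) := by
  by_contra hcon
  obtain ⟨x, hx⟩ := Set.nonempty_iff_ne_empty.mpr hcon
  obtain ⟨_, ⟨V : X.Opens, hV, rfl⟩, hxV, hVsub⟩ :=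
    X.isBasis_affineOpens.exists_subset_of_mem_open hx isOpen_interior
  obtain ⟨t, ht⟩ := exists_affine_cover f hV
  have hle : ∀ i ∈ t, i.1 ≤ f ⁻¹ᵁ V := fun i hi z hz => by
    show z ∈ (f ⁻¹ᵁ V : Set Y)
    rw [ht]; exact Set.mem_biUnion hi hz
  have hnd : ∀ i ∈ t, IsNowhereDense (f '' (T ∩ i.1)) := by
    intro i hi
    obtain ⟨g, hg, _, _, _, _⟩ := exists_piece f hV i.2 (hle i hi)
    have h2 : IsNowhereDense (i.1.ι ⁻¹' T) := by
      rw [IsNowhereDense, ← i.1.ι.isOpenEmbedding.isOpenMap.preimage_closure_eq_closure_preimage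
        i.1.ι.continuous, ← i.1.ι.isOpenEmbedding.isOpenMap.preimage_interior_eq_interior_preimage
        i.1.ι.continuous, show interior (closure T) = ∅ from hT', Set.preimage_empty]
    have h3 : f '' (T ∩ i.1) = V.ι '' (g '' (i.1.ι ⁻¹' T)) := by
      rw [Set.image_image]
      simp only [← Scheme.Hom.comp_apply, hg]
      ext z
      constructor
      · rintro ⟨w, ⟨hwT, hwi⟩, rfl⟩; exact ⟨⟨w, hwi⟩, hwT, rfl⟩
      · rintro ⟨w, hwT, rfl⟩; exact ⟨w.1, ⟨hwT, w.2⟩, rfl⟩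
    rw [h3]
    exact V.ι.isOpenEmbedding.isInducing.isNowhereDense_image
      (isNowhereDense_image g _ (hT.preimage i.1.ι.continuous) h2)
  have hall := isNowhereDense_finite_biUnion t _ hnd
  have hsub : (V : Set X) ⊆ closure (⋃ i ∈ t, f '' (T ∩ i.1)) := by
    intro v hv
    have h1 : v ∈ closure ((V : Set X) ∩ f '' T) :=
      V.isOpen.inter_closure ⟨hv, interior_subset (hVsub hv)⟩
    refine closure_mono ?_ h1
    rintro _ ⟨hwV, w, hw, rfl⟩
    have hw' : w ∈ (f ⁻¹ᵁ V : Set Y) := hwV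
    rw [ht] at hw'
    obtain ⟨i, hi, hwi⟩ := Set.mem_iUnion₂.mp hw'
    exact Set.mem_biUnion hi ⟨w, ⟨hw, hwi⟩, rfl⟩
  have h := interior_maximal hsub V.2 hxV
  rw [show interior (closure _) = ∅ from hall] at h
  exact h

theorem exists_dense_finite {Y X : Scheme.{u}} (f : Y ⟶ X) [LocallyQuasiFinite f]
    [LocallyOfFiniteType f] [QuasiCompact f] :
    ∃ U : X.Opens, Dense (U : Set X) ∧ IsFinite (f ∣_ U) := by
  classical
  let U : X.Opens := ⨆ V : {V : X.Opens // IsFinite (f ∣_ V)}, V.1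
  refine ⟨U, ?_, ?_⟩
  · rw [dense_iff_inter_open]
    intro O hO hne
    obtain ⟨x, hx⟩ := hne
    obtain ⟨_, ⟨V : X.Opens, hV, rfl⟩, hxV, hVO⟩ :=
      X.isBasis_affineOpens.exists_subset_of_mem_open hx hO
    obtain ⟨t, ht⟩ := exists_affine_cover f hV
    let bad : Y.affineOpens × Y.affineOpens → Set Y := fun p =>
      closure ((p.1.1 : Set Y) ∩ p.2.1) \ ((p.1.1 : Set Y) ∩ p.2.1)
    have hbadc : ∀ p, IsClosed (bad p) := fun p =>
      isClosed_closure.sdiff (p.1.1.2.inter p.2.1.2)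
    have hbadn : ∀ p, IsNowhereDense (bad p) := fun p => by
      rw [(hbadc p).isNowhereDense_iff, Set.eq_empty_iff_forall_notMem]
      intro z hz
      obtain ⟨h1, h2⟩ := interior_subset hz
      obtain ⟨w, hw, hw'⟩ := mem_closure_iff.mp h1 _ isOpen_interior hz
      exact (interior_subset hw).2 hw'
    have hB := isNowhereDense_finite_biUnion (t ×ˢ t) (fun p => f '' bad p) fun p _ =>
      isNowhereDense_image_of_qc f _ (hbadc p) (hbadn p)
    obtain ⟨D, hDo, hDne, hDV, hDB⟩ : ∃ D : Set X, IsOpen D ∧ D.Nonempty ∧ D ⊆ V ∧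
        Disjoint D (⋃ p ∈ t ×ˢ t, f '' bad p) := by
      refine ⟨(V : Set X) \ closure (⋃ p ∈ t ×ˢ t, f '' bad p), V.2.sdiff isClosed_closure,
        Set.sdiff_nonempty.mpr fun hsub => ?_, Set.sdiff_subset,
        Set.disjoint_left.mpr fun z hz hz' => hz.2 (subset_closure hz')⟩
      have h := interior_maximal hsub V.2 hxV
      rw [show interior (closure _) = ∅ from hB] at h
      exact h
    obtain ⟨r, hr, hrne⟩ : ∃ r : Γ(X, V), (X.basicOpen r : Set X) ⊆ D ∧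
        (X.basicOpen r : Set X).Nonempty := by
      obtain ⟨d, hd⟩ := hDne
      obtain ⟨r, hr, hdr⟩ := hV.exists_basicOpen_le (V := ⟨D, hDo⟩) ⟨d, hd⟩ (hDV hd)
      exact ⟨r, hr, d, hdr⟩
    let B := X.basicOpen r
    haveI : IsAffine B.toScheme := hV.basicOpen r
    haveI : QuasiCompact (f ∣_ B) := IsZariskiLocalAtTarget.restrict ‹_› B
    haveI : LocallyOfFiniteType (f ∣_ B) := IsZariskiLocalAtTarget.restrict ‹_› B
    haveI : LocallyQuasiFinite (f ∣_ B) := IsZariskiLocalAtTarget.restrict ‹_› B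
    haveI : CompactSpace (f ⁻¹ᵁ B).toScheme :=
      (quasiCompact_iff_compactSpace (f ∣_ B)).mp inferInstance
    have hle : ∀ i ∈ t, i.1 ≤ f ⁻¹ᵁ V := fun i hi z hz => by
      show z ∈ (f ⁻¹ᵁ V : Set Y)
      rw [ht]; exact Set.mem_biUnion hi hz
    let P : t → (f ⁻¹ᵁ B).toScheme.Opens := fun i => (f ⁻¹ᵁ B).ι ⁻¹ᵁ i.1.1
    have hPcov : IsOpenCover P := by
      refine eq_top_iff.mpr fun z _ => ?_
      have hz : z.1 ∈ (f ⁻¹ᵁ V : Set Y) := X.basicOpen_le r z.2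
      rw [ht] at hz
      obtain ⟨i, hi, hzi⟩ := Set.mem_iUnion₂.mp hz
      exact TopologicalSpace.Opens.mem_iSup.mpr ⟨⟨i, hi⟩, hzi⟩
    have hPaff : ∀ i, IsAffineOpen (P i) := by
      intro i
      refine (Scheme.Hom.isAffineOpen_iff_of_isOpenImmersion (f ⁻¹ᵁ B).ι).mp ?_
      rw [Scheme.Hom.image_preimage_eq_opensRange_inf, Scheme.Opens.opensRange_ι]
      have e : f ⁻¹ᵁ B ⊓ i.1.1 = Y.basicOpen (f.appLE V i.1.1 (hle _ i.2) r) := by
        rw [Scheme.Hom.appLE, CommRingCat.comp_apply, Scheme.basicOpen_res,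
          ← Scheme.preimage_basicOpen, inf_comm]
      rw [e]
      exact i.1.2.basicOpen _
    have hPclosed : ∀ i, IsClosed (P i : Set (f ⁻¹ᵁ B).toScheme) := by
      intro i
      rw [← closure_subset_iff_isClosed]
      intro z hz
      have hz1 : z.1 ∈ (f ⁻¹ᵁ V : Set Y) := X.basicOpen_le r z.2
      rw [ht] at hz1
      obtain ⟨j, hj, hzj⟩ := Set.mem_iUnion₂.mp hz1
      by_contra hzi
      have hcl : (f ⁻¹ᵁ B).ι z ∈ closure ((i.1.1 : Set Y) ∩ j.1) := by
        rw [mem_closure_iff]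
        intro o ho hzo
        obtain ⟨w, hw, hwi⟩ := mem_closure_iff.mp hz ((f ⁻¹ᵁ B).ι ⁻¹' (o ∩ j.1))
          ((ho.inter j.1.2).preimage (f ⁻¹ᵁ B).ι.continuous) ⟨hzo, hzj⟩
        exact ⟨(f ⁻¹ᵁ B).ι w, hw.1, hwi, hw.2⟩
      exact Set.disjoint_left.mp hDB (hr z.2) (Set.mem_biUnion
        (Finset.mk_mem_product i.2 hj : (i.1, j) ∈ t ×ˢ t) ⟨_, ⟨hcl, fun h => hzi h.1⟩, rfl⟩)
    haveI : QuasiSeparatedSpace (f ⁻¹ᵁ B).toScheme :=
      QuasiSeparatedSpace.of_isOpenCover hPcov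
        (fun i _ hc _ => hc.inter_left (hPclosed i)) fun i => (hPaff i).isQuasiSeparated
    haveI : QuasiSeparated (f ∣_ B) := (quasiSeparated_iff_quasiSeparatedSpace _).mpr inferInstance
    obtain ⟨d, hd⟩ := hrne
    obtain ⟨D', -, ⟨y, hy⟩, -, hfin⟩ := exists_finite_open (f ∣_ B) (D := Set.univ) isOpen_univ
      ⟨⟨d, hd⟩, trivial⟩
    haveI := hfin
    have hG : IsFinite (f ∣_ (B.ι ''ᵁ D')) :=
      (MorphismProperty.arrow_mk_iso_iff @IsFinite (morphismRestrictRestrict f B D')).mp hfin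
    exact ⟨B.ι y, hVO (X.basicOpen_le r y.2),
      TopologicalSpace.Opens.mem_iSup.mpr ⟨⟨_, hG⟩, ⟨y, hy, rfl⟩⟩⟩
  · have hsup : ∀ V : {V : X.Opens // IsFinite (f ∣_ V)}, V.1 ≤ U := fun V =>
      le_iSup (fun V : {V : X.Opens // IsFinite (f ∣_ V)} => V.1) V
    let U'' : {V : X.Opens // IsFinite (f ∣_ V)} → U.toScheme.Opens := fun V => U.ι ⁻¹ᵁ V.1
    have hU'' : ⨆ V, U'' V = ⊤ := by
      refine eq_top_iff.mpr fun z _ => ?_
      obtain ⟨V, hV⟩ := TopologicalSpace.Opens.mem_iSup.mp z.2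
      exact TopologicalSpace.Opens.mem_iSup.mpr ⟨V, hV⟩
    have e : ∀ V, U.ι ''ᵁ U'' V = V.1 := fun V => by
      rw [Scheme.Hom.image_preimage_eq_opensRange_inf, Scheme.Opens.opensRange_ι, inf_eq_right]
      exact hsup V
    exact IsZariskiLocalAtTarget.of_iSup_eq_top U'' hU'' fun V =>
      (MorphismProperty.arrow_mk_iso_iff @IsFinite
        (morphismRestrictRestrict f U (U'' V) ≪≫ morphismRestrictEq f (e V))).mpr V.2

end Groth.Agent.GenFin
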